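import Groth.Agent.SplitPunct21.Glue
import Groth.Agent.Lib.FEt21.Basic
import Mathlib.AlgebraicGeometry.Sites.Fpqc

/-!
# Covers of the punctured spectrum split by the strict henselization extend
-/

set_option autoImplicit false

universe u

open CategoryTheory CategoryTheory.Limits AlgebraicGeometry TensorProduct IsLocalRing

namespace Groth.Agent.SplitPunct21

variable {A : Type u} [CommRing A] [IsLocalRing A]

theorem generic_of_eq {F : Type u} [CommRing F] [Algebra A F] {Ω : Type u} [Field Ω] [Algebra A Ω]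
    (a : Spec (CommRingCat.of Ω) ⟶ part A F)
    (h : a ≫ pullback.fst _ _ ≫ (FEt.puncturedSpec A).ι = specHom A Ω) : Generic A Ω :=
  (exists_pt a h).1

/-- The algebra structure of a geometric point of the punctured spectrum. -/
theorem exists_algebra {Ω : Type u} [Field Ω] (ξ : Spec (CommRingCat.of Ω) ⟶ Spec (CommRingCat.of A)) :
    ∃ _ : Algebra A Ω, ξ = specHom A Ω :=
  ⟨(Spec.preimage ξ).hom.toAlgebra, (Spec.map_preimage ξ).symm⟩

variable (R : Type u) [CommRing R] [IsLocalRing R] [Algebra A R]
  [IsLocalHom (algebraMap A R)] [Hensel.IsStrictHenselization A R]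

instance surjective_fst_part : Surjective (pullback.fst (FEt.puncturedSpec A).ι (specHom A R)) := by
  have : Module.FaithfullyFlat A R := GrothLib.Hensel.IsStrictHenselization.faithfullyFlat
  have : Surjective (specHom A R) := ⟨PrimeSpectrum.comap_surjective_of_faithfullyFlat⟩
  exact MorphismProperty.pullback_fst _ _ this

instance flat_fst_part : Flat (pullback.fst (FEt.puncturedSpec A).ι (specHom A R)) := by
  have : Module.Flat A R := GrothLib.Hensel.IsStrictHenselization.flat
  have : Flat (specHom A R) := by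
    rw [HasRingHomProperty.Spec_iff (P := @Flat)]
    exact RingHom.flat_algebraMap_iff.mpr ‹_›
  exact MorphismProperty.pullback_fst _ _ this

/-- A cover of the punctured spectrum split over the strict henselization extends. -/
theorem exists_extension [CompactSpace (FEt.puncturedSpec A : Scheme.{u})]
    (hc : ConnectedSpace ↑(part A R)) (V : FEt.Cat (FEt.puncturedSpec A : Scheme.{u}))
    (hV : Pi1.IsSplit ((FEt.restrict (pullback.fst (FEt.puncturedSpec A).ι (specHom A R))).obj V)) :
    ∃ Y : FEt.Cat (Spec (CommRingCat.of A)),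
      Nonempty ((FEt.restrict (FEt.puncturedSpec A).ι).obj Y ≅ V) := by
  classical
  have : Module.FaithfullyFlat A R := GrothLib.Hensel.IsStrictHenselization.faithfullyFlat
  have hqc : IsCompact ({closedPoint A}ᶜ : Set (PrimeSpectrum A)) :=
    isCompact_iff_compactSpace.mpr ‹_›
  have hconn : _root_.IsConnected (overU A R) :=
    range_snd_part A R ▸ isConnected_range (pullback.snd (FEt.puncturedSpec A).ι (specHom A R)).continuous
  let U : Scheme.{u} := (FEt.puncturedSpec A : Scheme.{u})
  let h : V.left ⟶ U := V.hom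
  have : IsFinite h := V.prop.1
  have : Etale h := V.prop.2
  obtain ⟨n, s, hs', hbij⟩ := exists_sections R V hV
  have hs : ∀ i, s i ≫ h = pullback.fst _ _ := hs'
  obtain ⟨ε, hε, hrel⟩ := exists_glueing R hqc hconn h s hs hbij
  let B := descended A R ε
  obtain ⟨hfin, het⟩ := finite_etale_descended A R ε hε
  have hY : FEt.prop (specHom A B) :=
    ⟨(IsFinite.SpecMap_iff _).mpr (RingHom.finite_algebraMap.mpr hfin), by
      rw [HasRingHomProperty.Spec_iff (P := @Etale)]
      exact RingHom.etale_algebraMap.mpr het⟩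
  let Y : FEt.Cat (Spec (CommRingCat.of A)) := MorphismProperty.Over.mk ⊤ (specHom A B) hY
  refine ⟨Y, ?_⟩
  let W : Scheme.{u} := pullback (specHom A B) (FEt.puncturedSpec A).ι
  let hW : W ⟶ U := pullback.snd _ _
  have : IsFinite hW := ((FEt.restrict (FEt.puncturedSpec A).ι).obj Y).prop.1
  have : Etale hW := ((FEt.restrict (FEt.puncturedSpec A).ι).obj Y).prop.2
  let t : Fin n → (part A R ⟶ W) := fun i =>
    pullback.lift (pullback.snd _ _ ≫ Spec.map (CommRingCat.ofHom (coord ε i).toRingHom))
      (pullback.fst _ _) (by rw [Category.assoc, specHom_comp, pullback.condition])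
  have ht : ∀ i, t i ≫ hW = pullback.fst _ _ := fun i => pullback.lift_snd _ _ _
  have hpt : ∀ (Ω : Type u) [Field Ω] [Algebra A Ω] (hΩ : Generic A Ω) (f : R →ₐ[A] Ω) i,
      (pt hΩ f ≫ t i) ≫ pullback.fst _ _ = Spec.map (CommRingCat.ofHom (f.comp (coord ε i)).toRingHom) ∧
        (pt hΩ f ≫ t i) ≫ hW = base hΩ := by
    intro Ω _ _ hΩ f i
    refine ⟨?_, by rw [Category.assoc, ht, pt_fst]⟩
    rw [Category.assoc, pullback.lift_fst, pt_snd_assoc, ← Spec.map_comp, ← CommRingCat.ofHom_comp]
    rfl
  -- points of the extension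
  have hWbij : ∀ (Ω : Type u) [Field Ω] (a : Spec (CommRingCat.of Ω) ⟶ part A R)
      (w : Spec (CommRingCat.of Ω) ⟶ W), w ≫ hW = a ≫ pullback.fst _ _ → ∃! i, a ≫ t i = w := by
    intro Ω _ a w hw
    obtain ⟨alg, halg⟩ := exists_algebra (a ≫ pullback.fst _ _ ≫ (FEt.puncturedSpec A).ι)
    obtain ⟨hΩ, f, rfl⟩ := exists_pt a halg
    have hπ : (Spec.preimage (w ≫ pullback.fst _ _)).hom.comp (algebraMap A B) = algebraMap A Ω := by
      have e : CommRingCat.ofHom (algebraMap A B) ≫ Spec.preimage (w ≫ pullback.fst _ _) =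
          CommRingCat.ofHom (algebraMap A Ω) := Spec.map_injective (by
        rw [Spec.map_comp, Spec.map_preimage, Category.assoc, pullback.condition, ← Category.assoc, hw,
          Category.assoc]
        exact halg)
      exact congrArg CommRingCat.Hom.hom e
    let π : B →ₐ[A] Ω :=
      { (Spec.preimage (w ≫ pullback.fst _ _)).hom with commutes' := fun x => RingHom.congr_fun hπ x }
    have hπ' : Spec.map (CommRingCat.ofHom π.toRingHom) = w ≫ pullback.fst _ _ := Spec.map_preimage _
    refine (existsUnique_congr fun i => ?_).mpr (existsUnique_comp_coord ε hε f π)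
    constructor
    · intro e
      refine AlgHom.ext fun x => ?_
      have e1 := (hpt Ω hΩ f i).1
      rw [e, ← hπ'] at e1
      exact (RingHom.congr_fun (congrArg CommRingCat.Hom.hom (Spec.map_injective e1)) x).symm
    · intro e
      apply pullback.hom_ext
      · exact (hpt Ω hΩ f i).1.trans (e ▸ hπ')
      · exact (hpt Ω hΩ f i).2.trans ((pt_fst hΩ f).symm.trans hw.symm)
  -- every point lies on a section
  have hcover : ∀ {Z : Scheme.{u}} (g : Z ⟶ U) (r : Fin n → (part A R ⟶ Z)),
      (∀ (Ω : Type u) [Field Ω] (a : Spec (CommRingCat.of Ω) ⟶ part A R)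
        (w : Spec (CommRingCat.of Ω) ⟶ Z), w ≫ g = a ≫ pullback.fst _ _ → ∃! i, a ≫ r i = w) →
      ∀ z : Z, ∃ i x, r i x = z := by
    intro Z g r hr z
    let a₀ := pullback.fst (FEt.puncturedSpec A).ι (specHom A R)
    obtain ⟨x, hx⟩ := (pullback.fst g a₀).surjective z
    let k := GrothLib.FEt21.geomPt _ x
    obtain ⟨i, hi, -⟩ := hr _ (k ≫ pullback.snd g a₀) (k ≫ pullback.fst g a₀)
      (by rw [Category.assoc, pullback.condition, Category.assoc])
    refine ⟨i, (pullback.snd g a₀) x, ?_⟩
    have := congrArg (fun m => m default) hi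
    simp only [Scheme.Hom.comp_apply] at this
    rw [show k default = x from GrothLib.FEt21.geomPt_default _ x] at this
    rw [this, hx]
  -- descent of the sections
  let q : (∐ fun _ : Fin n => part A R) ⟶ V.left := Sigma.desc s
  let T : (∐ fun _ : Fin n => part A R) ⟶ W := Sigma.desc t
  have hsflat : ∀ i, Flat (s i) := fun i => by
    let a₀ := pullback.fst (FEt.puncturedSpec A).ι (specHom A R)
    let σ : part A R ⟶ pullback h a₀ := pullback.lift (s i) (𝟙 _) (by rw [hs, Category.id_comp])
    have hσ : σ ≫ pullback.snd h a₀ = 𝟙 _ := pullback.lift_snd _ _ _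
    haveI : Mono σ := mono_of_mono_fac hσ
    haveI : Etale (σ ≫ pullback.snd h a₀) := hσ.symm ▸ inferInstance
    haveI : Etale σ := Etale.of_comp σ (pullback.snd h a₀)
    haveI : Flat (pullback.fst h a₀) := MorphismProperty.pullback_fst _ _ (flat_fst_part R)
    rw [show s i = σ ≫ pullback.fst h a₀ from (pullback.lift_fst _ _ _).symm]
    infer_instance
  have : Flat q := by
    have := hsflat
    infer_instance
  have : Surjective q := by
    refine ⟨fun v => ?_⟩
    obtain ⟨i, x, hx⟩ := hcover h s hbij v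
    exact ⟨Sigma.ι (fun _ : Fin n => part A R) i x, by
      rw [← Scheme.Hom.comp_apply]; simpa [q] using hx⟩
  have : QuasiCompact q := by
    have : CompactSpace ↑(part A R) :=
      QuasiCompact.compactSpace_of_compactSpace (pullback.fst (FEt.puncturedSpec A).ι (specHom A R))
    have : QuasiSeparatedSpace ↥U := quasiSeparatedSpace_of_quasiSeparated (FEt.puncturedSpec A).ι
    have : QuasiSeparatedSpace ↥V.left := quasiSeparatedSpace_of_quasiSeparated h
    let 𝒰 := sigmaOpenCover (fun _ : Fin n => part A R)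
    have : Finite 𝒰.I₀ := inferInstanceAs (Finite (Fin n))
    have : ∀ i, CompactSpace ↑(𝒰.X i) := fun _ => ‹CompactSpace ↑(part A R)›
    have : CompactSpace ↑(∐ fun _ : Fin n => part A R) := Scheme.OpenCover.compactSpace 𝒰
    infer_instance
  have hqh : q ≫ h = T ≫ hW := Sigma.hom_ext _ _ fun i => by simp [q, T, hs, ht]
  have hqT : ∀ {Z : Scheme.{u}} (u v : Z ⟶ ∐ fun _ : Fin n => part A R), u ≫ q = v ≫ q → u ≫ T = v ≫ T := by
    intro Z u v huv
    obtain ⟨O, hO⟩ := GrothLib.EtDescent21.exists_agreeOpen hW (u ≫ T) (v ≫ T) (by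
      rw [Category.assoc, ← hqh, Category.assoc, ← hqh, reassoc_of% huv])
    have := (hO (𝟙 Z)).mp fun z _ => ?_
    · simpa using this
    let k := GrothLib.FEt21.geomPt Z z
    obtain ⟨i, a, ha⟩ := exists_sigmaι_fac (k ≫ u)
    obtain ⟨j, b, hb⟩ := exists_sigmaι_fac (k ≫ v)
    have hab : a ≫ s i = b ≫ s j := by
      have e := congrArg (k ≫ ·) huv
      simp only [← Category.assoc, ← ha, ← hb] at e
      simpa [q] using e
    have habU : a ≫ pullback.fst _ _ = b ≫ pullback.fst _ _ := by
      have e := congrArg (· ≫ h) hab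
      simpa [hs] using e
    obtain ⟨alg, halg⟩ := exists_algebra (a ≫ pullback.fst _ _ ≫ (FEt.puncturedSpec A).ι)
    obtain ⟨hΩ, f, rfl⟩ := exists_pt a halg
    obtain ⟨hΩ', g, rfl⟩ := exists_pt b (by rw [← reassoc_of% habU]; exact halg)
    have hfg := comp_coord_eq ε ((hrel _ hΩ f g i j).mpr hab)
    have e : k ≫ u ≫ T = k ≫ v ≫ T := by
      rw [← Category.assoc, ← Category.assoc, ← ha, ← hb]
      simp only [T, Category.assoc, Sigma.ι_desc]
      apply pullback.hom_ext
      · rw [(hpt _ hΩ f i).1, (hpt _ hΩ g j).1, hfg]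
      · exact (hpt _ hΩ f i).2.trans (hpt _ hΩ g j).2.symm
    exact ((hO k).mpr e) ⟨default, GrothLib.FEt21.geomPt_default Z z⟩
  let φ₀ : V.left ⟶ W := EffectiveEpi.desc q T fun {Z} u v => hqT u v
  have hqφ : q ≫ φ₀ = T := EffectiveEpi.fac q T _
  have hφh : φ₀ ≫ hW = h := by
    rw [← cancel_epi q, ← Category.assoc, hqφ, hqh]
  have hsφ : ∀ i, s i ≫ φ₀ = t i := fun i => by
    have e := congrArg (Sigma.ι (fun _ : Fin n => part A R) i ≫ ·) hqφ
    simpa [q, T] using e
  let φ : V ⟶ (FEt.restrict (FEt.puncturedSpec A).ι).obj Y := MorphismProperty.Over.homMk φ₀ hφh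
  have : IsIso φ := by
    refine GrothLib.FEt21.isIso_of_finrank φ fun y => ?_
    obtain ⟨i, x, rfl⟩ := hcover hW t hWbij y
    let k := GrothLib.FEt21.geomPt _ x
    let ξ := k ≫ pullback.fst (FEt.puncturedSpec A).ι (specHom A R)
    let s' : FEt.fiberObj ξ ((FEt.restrict (FEt.puncturedSpec A).ι).obj Y) :=
      ⟨k ≫ t i, (Category.assoc _ _ _).trans (congrArg (k ≫ ·) (ht i))⟩
    have key := GrothLib.FEt21.finrank_eq_card φ ξ s'
    have hd : s'.1 default = t i x := by
      show t i (k default) = _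
      rw [show k default = x from GrothLib.FEt21.geomPt_default _ x]
    rw [hd] at key
    refine key.trans (Nat.card_eq_one_iff_unique.mpr ⟨⟨fun v w => Subtype.ext (Subtype.ext ?_)⟩,
      ⟨⟨⟨k ≫ s i, (Category.assoc _ _ _).trans (congrArg (k ≫ ·) (hs i))⟩,
        (Category.assoc _ _ _).trans (congrArg (k ≫ ·) (hsφ i))⟩⟩⟩)
    have huniq : ∀ (v : {s : FEt.fiberObj ξ V // s.1 ≫ φ.left = s'.1}), k ≫ s i = v.1.1 := by
      intro v
      obtain ⟨j, hj, -⟩ := hbij _ k v.1.1 v.1.2
      have e : k ≫ t j = k ≫ t i := by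
        rw [← hsφ j, ← Category.assoc, hj]
        exact v.2
      have hji : j = i := by
        obtain ⟨l, -, hl⟩ := hWbij _ k (k ≫ t i) (by rw [Category.assoc, ht])
        exact (hl j e).trans (hl i rfl).symm
      exact hji ▸ hj
    exact (huniq v).symm.trans (huniq w)
  exact ⟨(asIso φ).symm⟩

end Groth.Agent.SplitPunct21
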