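import Mathlib

/-!
# Descent of a split algebra along idempotent gluing data
-/

set_option autoImplicit false

universe u

open TensorProduct

namespace Groth.Agent.SplitPunct21

variable (A R : Type u) [CommRing A] [CommRing R] [Algebra A R]

/-- The map forgetting the third factor. -/
noncomputable def a12 : R ⊗[A] R →ₐ[A] R ⊗[A] (R ⊗[A] R) :=
  Algebra.TensorProduct.map (AlgHom.id A R) Algebra.TensorProduct.includeLeft

/-- The map forgetting the second factor. -/
noncomputable def a13 : R ⊗[A] R →ₐ[A] R ⊗[A] (R ⊗[A] R) :=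
  Algebra.TensorProduct.map (AlgHom.id A R) Algebra.TensorProduct.includeRight

/-- The map forgetting the first factor. -/
noncomputable def a23 : R ⊗[A] R →ₐ[A] R ⊗[A] (R ⊗[A] R) :=
  Algebra.TensorProduct.includeRight

variable {ι : Type} (ε : ι → ι → R ⊗[A] R)

/-- The descended algebra. -/
noncomputable def descended : Subalgebra A (ι → R) where
  carrier := {x | ∀ i j, (x i ⊗ₜ[A] (1 : R)) * ε i j = ((1 : R) ⊗ₜ[A] x j) * ε i j}
  mul_mem' := fun {x y} hx hy i j => by
    have h1 : ((x * y) i) ⊗ₜ[A] (1 : R) = (x i ⊗ₜ 1) * (y i ⊗ₜ 1) := by simp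
    have h2 : (1 : R) ⊗ₜ[A] ((x * y) j) = (1 ⊗ₜ x j) * (1 ⊗ₜ y j) := by simp
    rw [h1, h2, mul_assoc, hy i j, mul_left_comm, hx i j, mul_left_comm]
    ring
  add_mem' := fun {x y} hx hy i j => by
    rw [Pi.add_apply, Pi.add_apply, TensorProduct.add_tmul, TensorProduct.tmul_add, add_mul, add_mul,
      hx i j, hy i j]
  algebraMap_mem' := fun a i j => by
    congr 1
    simp [Algebra.algebraMap_eq_smul_one, TensorProduct.smul_tmul]

theorem mem_descended {x : ι → R} :
    x ∈ descended A R ε ↔ ∀ i j, (x i ⊗ₜ[A] (1 : R)) * ε i j = ((1 : R) ⊗ₜ[A] x j) * ε i j := Iff.rfl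

/-- The comparison map. -/
noncomputable def comparison : R ⊗[A] descended A R ε →ₐ[R] (ι → R) :=
  Algebra.TensorProduct.lift (Algebra.ofId R (ι → R)) (descended A R ε).val fun _ _ => .all _ _

theorem comparison_tmul (r : R) (x : descended A R ε) (i : ι) :
    comparison A R ε (r ⊗ₜ x) i = r * (x : ι → R) i := by
  simp [comparison]

theorem bijective_comparison [Module.Flat A R] [Fintype ι] [DecidableEq ι]
    (hcolorth : ∀ i j k, i ≠ k → ε i j * ε k j = 0)
    (hrow : ∀ i, ∑ j, ε i j = 1) (hcol : ∀ j, ∑ i, ε i j = 1)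
    (hdiag : ∀ i j, Algebra.TensorProduct.lmul' A (S := R) (ε i j) = if i = j then 1 else 0)
    (hcocycle : ∀ i k, ∑ j, a12 A R (ε i j) * a23 A R (ε j k) = a13 A R (ε i k)) :
    Function.Bijective (comparison A R ε) := by
  let E := R ⊗[A] R
  let δ : (ι → R) →ₗ[A] (ι × ι → E) := LinearMap.pi fun ij =>
    (LinearMap.mulRight A (ε ij.1 ij.2)).comp
      (((Algebra.TensorProduct.includeLeft : R →ₐ[A] E).toLinearMap.comp (LinearMap.proj ij.1)) -
        ((Algebra.TensorProduct.includeRight : R →ₐ[A] E).toLinearMap.comp (LinearMap.proj ij.2)))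
  let inc : descended A R ε →ₗ[A] (ι → R) := (descended A R ε).val.toLinearMap
  have hexact : Function.Exact inc δ := by
    intro x
    have e : δ x = 0 ↔ x ∈ descended A R ε := by
      rw [mem_descended, funext_iff, Prod.forall]
      refine forall₂_congr fun i j => ?_
      simp only [δ, LinearMap.pi_apply, LinearMap.comp_apply, LinearMap.mulRight_apply,
        LinearMap.sub_apply, AlgHom.toLinearMap_apply, Algebra.TensorProduct.includeLeft_apply,
        Algebra.TensorProduct.includeRight_apply, LinearMap.proj_apply, Pi.zero_apply, sub_mul,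
        sub_eq_zero]
    rw [e]
    exact ⟨fun h => ⟨⟨x, h⟩, rfl⟩, fun ⟨y, hy⟩ => hy ▸ y.2⟩
  have hexact' := Module.Flat.lTensor_exact R hexact
  have hinj : Function.Injective (inc.lTensor R) :=
    Module.Flat.lTensor_preserves_injective_linearMap _ Subtype.val_injective
  -- coordinates
  let P : R ⊗[A] (ι → R) ≃ₗ[A] (ι → E) := TensorProduct.piRight A A R fun _ : ι => R
  let Q : R ⊗[A] (ι × ι → E) ≃ₗ[A] (ι × ι → R ⊗[A] E) := TensorProduct.piRight A A R fun _ : ι × ι => E
  have hQ : ∀ w i j, Q (δ.lTensor R w) (i, j) =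
      (a12 A R (P w i) - a13 A R (P w j)) * a23 A R (ε i j) := by
    intro w i j
    induction w using TensorProduct.induction_on with
    | zero => simp
    | tmul r x =>
      simp [P, Q, δ, a12, a13, a23, sub_mul, TensorProduct.tmul_sub]
    | add a b ha hb =>
      simp only [map_add, Pi.add_apply, ha, hb]
      ring
  -- multiplication
  let h : R ⊗[A] E →ₐ[A] E :=
    Algebra.TensorProduct.lift ((Algebra.TensorProduct.includeLeft : R →ₐ[A] E)) (AlgHom.id A E)
      fun _ _ => .all _ _
  let μ : E →ₐ[A] R := Algebra.TensorProduct.lmul' A (S := R)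
  have h12 : ∀ y, h (a12 A R y) = μ y ⊗ₜ[A] (1 : R) := fun y => by
    induction y using TensorProduct.induction_on with
    | zero => simp
    | tmul r s => simp [h, μ, a12, E]
    | add a b ha hb => rw [map_add, map_add, ha, hb, map_add, TensorProduct.add_tmul]
  have h13 : ∀ y, h (a13 A R y) = y := fun y => by
    induction y using TensorProduct.induction_on with
    | zero => simp
    | tmul r s => simp [h, a13, E]
    | add a b ha hb => rw [map_add, map_add, ha, hb]
  have h23 : ∀ y, h (a23 A R y) = y := fun y => by simp [h, a23, E, ← Algebra.TensorProduct.one_def]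
  have hformula : ∀ y : ι → E,
      (∀ i j, (a12 A R (y i) - a13 A R (y j)) * a23 A R (ε i j) = 0) →
        ∀ j, y j = ∑ i, (μ (y i) ⊗ₜ[A] (1 : R)) * ε i j := by
    intro y hy j
    have h1 : ∀ i, (μ (y i) ⊗ₜ[A] (1 : R)) * ε i j = y j * ε i j := fun i => by
      have := congrArg h (hy i j)
      rw [map_mul, map_sub, h12, h13, h23, map_zero, sub_mul, sub_eq_zero] at this
      exact this
    simp only [h1, ← Finset.mul_sum, hcol, mul_one]
  have hΦ : ∀ z i, comparison A R ε z i = μ (P (inc.lTensor R z) i) := by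
    intro z i
    induction z using TensorProduct.induction_on with
    | zero => simp
    | tmul r x => simp [comparison_tmul, P, μ, inc, E]
    | add a b ha hb => simp only [map_add, Pi.add_apply, ha, hb]
  have hker : ∀ z i j,
      (a12 A R (P (inc.lTensor R z) i) - a13 A R (P (inc.lTensor R z) j)) * a23 A R (ε i j) = 0 := by
    intro z i j
    rw [← hQ, (hexact' _).mpr ⟨z, rfl⟩]
    simp
  refine ⟨(injective_iff_map_eq_zero _).mpr fun z hz => hinj (P.injective (funext fun j => ?_)),
    fun x => ?_⟩
  · rw [hformula _ (hker z) j, map_zero, map_zero, Pi.zero_apply]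
    refine Finset.sum_eq_zero fun i _ => ?_
    rw [← hΦ, hz, Pi.zero_apply, TensorProduct.zero_tmul, zero_mul]
  · let y : ι → E := fun j => ∑ k, (x k ⊗ₜ[A] (1 : R)) * ε k j
    have hy : ∀ i j, (a12 A R (y i) - a13 A R (y j)) * a23 A R (ε i j) = 0 := by
      intro i j
      have key : ∀ k, a13 A R (ε k j) * a23 A R (ε i j) = a12 A R (ε k i) * a23 A R (ε i j) := by
        intro k
        rw [← hcocycle k j, Finset.sum_mul, Finset.sum_eq_single i]
        · rw [mul_assoc, ← map_mul]
          congr 2
          conv_rhs => rw [← mul_one (ε i j), ← hcol j, Finset.mul_sum]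
          rw [Finset.sum_eq_single i (fun l _ hl => hcolorth i j l hl.symm)
            (fun h => absurd (Finset.mem_univ i) h)]
        · intro l _ hl
          rw [mul_assoc, ← map_mul, hcolorth l j i hl, map_zero, mul_zero]
        · exact fun h => absurd (Finset.mem_univ i) h
      simp only [y, map_sum, map_mul, sub_mul, Finset.sum_mul, ← Finset.sum_sub_distrib]
      refine Finset.sum_eq_zero fun k _ => ?_
      have e : a12 A R (x k ⊗ₜ[A] (1 : R)) = a13 A R (x k ⊗ₜ[A] (1 : R)) := by simp [a12, a13]
      rw [e, mul_assoc, mul_assoc, key k, sub_self]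
    obtain ⟨w, hw⟩ := P.surjective y
    obtain ⟨z, hz⟩ := (hexact' w).mp (Q.injective (funext fun ij => by
      obtain ⟨i, j⟩ := ij
      rw [hQ, hw, map_zero, Pi.zero_apply]
      exact hy i j))
    refine ⟨z, funext fun j => ?_⟩
    rw [hΦ, hz, hw]
    simp [y, μ, map_sum, hdiag]
    exact mul_one _

theorem finite_etale_descended [Module.FaithfullyFlat A R] [Fintype ι] [DecidableEq ι]
    (h : Function.Bijective (comparison A R ε)) :
    Module.Finite A (descended A R ε) ∧ Algebra.Etale A (descended A R ε) := by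
  let e := AlgEquiv.ofBijective _ h
  have : Module.Finite R (R ⊗[A] descended A R ε) := Module.Finite.equiv e.symm.toLinearEquiv
  have : Algebra.Etale R (R ⊗[A] descended A R ε) := Algebra.Etale.of_equiv e.symm
  exact ⟨Module.Finite.of_finite_tensorProduct_of_faithfullyFlat R,
    Algebra.Etale.of_etale_tensorProduct_of_faithfullyFlat (T := R)⟩

end Groth.Agent.SplitPunct21
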