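import Mathlib
import Groth.Agent.ConnInfinity21.Specialize
import Groth.Agent.Lib.IndEt.Flat
import Groth.Agent.Lib.Hensel.Henselization

/-!
# Clopen subsets over the punctured spectrum of `R ⊗ R` extend
-/

set_option autoImplicit false

universe u

open TensorProduct IsLocalRing PrimeSpectrum

namespace Groth.Agent.SplitPunct21

variable (A : Type u) [CommRing A] [IsLocalRing A]

/-- The primes of an algebra over a nonclosed point. -/
def overU (F : Type u) [CommRing F] [Algebra A F] : Set (PrimeSpectrum F) :=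
  {z | z.comap (algebraMap A F) ≠ closedPoint A}

theorem mem_overU {F : Type u} [CommRing F] [Algebra A F] {z : PrimeSpectrum F} :
    z ∈ overU A F ↔ z.comap (algebraMap A F) ≠ closedPoint A := Iff.rfl

theorem isOpen_overU (F : Type u) [CommRing F] [Algebra A F] : IsOpen (overU A F) :=
  ((IsLocalRing.isClosed_singleton_closedPoint (R := A)).isOpen_compl).preimage (PrimeSpectrum.continuous_comap _)

theorem isCompact_overU (F : Type u) [CommRing F] [Algebra A F]
    (hqc : IsCompact ({closedPoint A}ᶜ : Set (PrimeSpectrum A))) : IsCompact (overU A F) := by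
  obtain ⟨t, ht⟩ := PrimeSpectrum.isCompact_isOpen_iff.mp
    ⟨hqc, (IsLocalRing.isClosed_singleton_closedPoint (R := A)).isOpen_compl⟩
  classical
  refine (PrimeSpectrum.isCompact_isOpen_iff.mpr ⟨t.image (algebraMap A F), ?_⟩).1
  rw [Finset.coe_image, ← PrimeSpectrum.preimage_comap_zeroLocus, ← Set.preimage_compl, ht]
  rfl

theorem exists_specializes_overU {F : Type u} [CommRing F] [Algebra A F] [Module.Flat A F]
    (hne : ∃ p : PrimeSpectrum A, p ≠ closedPoint A) (z : PrimeSpectrum F) :
    ∃ c ∈ overU A F, c ⤳ z := by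
  by_cases hz : z ∈ overU A F
  · exact ⟨z, hz, specializes_rfl⟩
  · obtain ⟨p, hp⟩ := hne
    have hz' : z.comap (algebraMap A F) = closedPoint A := not_not.mp hz
    obtain ⟨c, hc, hcp⟩ := RingHom.Flat.generalizingMap_comap
      (RingHom.flat_algebraMap_iff.mpr ‹Module.Flat A F›) (a := z) (b := p)
      (hz' ▸ specializes_closedPoint p)
    exact ⟨c, by rw [mem_overU, hcp]; exact hp, hc⟩

/-- Idempotents agreeing over the punctured spectrum are equal. -/
theorem eq_of_idempotent {F : Type u} [CommRing F] [Algebra A F] [Module.Flat A F]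
    (hne : ∃ p : PrimeSpectrum A, p ≠ closedPoint A) {e e' : F} (he : IsIdempotentElem e)
    (he' : IsIdempotentElem e')
    (h : ∀ z ∈ overU A F, e ∈ z.asIdeal ↔ e' ∈ z.asIdeal) : e = e' := by
  refine PrimeSpectrum.basicOpen_injOn_isIdempotentElem he he' (TopologicalSpace.Opens.ext ?_)
  ext z
  obtain ⟨c, hc, hcz⟩ := exists_specializes_overU A hne z
  have key : ∀ {a : F}, IsIdempotentElem a → (a ∈ z.asIdeal ↔ a ∈ c.asIdeal) := by
    intro a ha
    refine ⟨fun h1 => ?_, fun h1 => (PrimeSpectrum.le_iff_specializes c z).mpr hcz h1⟩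
    by_contra h2
    have h4 : (1 - a) ∈ c.asIdeal :=
      (c.isPrime.mem_or_mem (show a * (1 - a) ∈ c.asIdeal by
        rw [mul_sub, mul_one, ha.eq, sub_self]; exact zero_mem _)).resolve_left h2
    have h3 := (PrimeSpectrum.le_iff_specializes c z).mpr hcz h4
    exact z.isPrime.ne_top ((Ideal.eq_top_iff_one _).mpr (by simpa using z.asIdeal.add_mem h1 h3))
  show e ∉ z.asIdeal ↔ e' ∉ z.asIdeal
  rw [key he, key he', h c hc]

variable {A} (R : Type u) [CommRing R] [IsLocalRing R] [Algebra A R]
  [IsLocalHom (algebraMap A R)] [Hensel.IsStrictHenselization A R]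

theorem weaklyEtale : Algebra.WeaklyEtale A R :=
  GrothLib.IndEt.weaklyEtale (GrothLib.Hensel.IsStrictHenselization.isIndEtale (R := A) (S := R))

/-- The map of residue fields induced by a map to a field killing the maximal ideal. -/
noncomputable def resLift {Ω : Type u} [Field Ω] [Algebra A Ω] [Algebra (ResidueField A) Ω]
    [IsScalarTower A (ResidueField A) Ω] (f : R →ₐ[A] Ω) : ResidueField R →ₐ[ResidueField A] Ω :=
  { (Ideal.Quotient.lift (maximalIdeal R) f.toRingHom (fun x hx => by
      rw [← GrothLib.Hensel.IsStrictHenselization.map_maximalIdeal (R := A) (S := R)] at hx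
      have hle : (maximalIdeal A).map (algebraMap A R) ≤ RingHom.ker f.toRingHom :=
        Ideal.map_le_iff_le_comap.mpr fun a ha => by
          show f (algebraMap A R a) = 0
          rw [f.commutes, IsScalarTower.algebraMap_apply A (ResidueField A) Ω,
            show algebraMap A (ResidueField A) a = 0 from Ideal.Quotient.eq_zero_iff_mem.mpr ha, map_zero]
      exact hle hx) : ResidueField R →+* Ω) with
    commutes' := fun x => by
      obtain ⟨a, rfl⟩ := residue_surjective x
      show f (algebraMap A R a) = algebraMap (ResidueField A) Ω (residue A a)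
      rw [f.commutes, IsScalarTower.algebraMap_apply A (ResidueField A) Ω]
      rfl }

theorem resLift_residue {Ω : Type u} [Field Ω] [Algebra A Ω] [Algebra (ResidueField A) Ω]
    [IsScalarTower A (ResidueField A) Ω] (f : R →ₐ[A] Ω) (r : R) :
    resLift R f (residue R r) = f r := rfl

/-- Retractions through a point with values in a field. -/
theorem exists_retraction_of_hom {Ω : Type u} [Field Ω] [Algebra A Ω] (π : R ⊗[A] R →ₐ[A] Ω)
    (hmA : ∀ a ∈ maximalIdeal A, algebraMap A Ω a = 0) :
    ∃ g : R ⊗[A] R →ₐ[A] R, g.toRingHom.Flat ∧ ∀ x, g x ∈ maximalIdeal R ↔ π x = 0 := by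
  have : HenselianLocalRing R := (‹Hensel.IsStrictHenselization A R›).henselian
  have hsc : IsSepClosure (ResidueField A) (ResidueField R) :=
    (‹Hensel.IsStrictHenselization A R›).isSepClosure
  have : IsSepClosed (ResidueField R) := hsc.sep_closed
  have : Algebra.IsSeparable (ResidueField A) (ResidueField R) := hsc.separable
  letI : Algebra (ResidueField A) Ω := (Ideal.Quotient.lift _ (algebraMap A Ω) hmA).toAlgebra
  haveI : IsScalarTower A (ResidueField A) Ω := IsScalarTower.of_algebraMap_eq fun _ => rfl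
  let lift₀ : (R →ₐ[A] Ω) → (ResidueField R →ₐ[ResidueField A] Ω) := fun f => resLift R f
  let ρ₁ := lift₀ (π.comp Algebra.TensorProduct.includeLeft)
  let ρ₂ := lift₀ (π.comp Algebra.TensorProduct.includeRight)
  -- the field generated by the two images
  let M : IntermediateField (ResidueField A) Ω := separableClosure (ResidueField A) Ω
  have hM : ∀ x, π x ∈ M := by
    intro x
    induction x using TensorProduct.induction_on with
    | zero => rw [map_zero]; exact M.zero_mem
    | add x y hx hy => rw [map_add]; exact M.add_mem hx hy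
    | tmul r s =>
      have h1 : r ⊗ₜ[A] s = (r ⊗ₜ 1) * (1 ⊗ₜ s) := by simp
      rw [h1, map_mul]
      refine M.mul_mem ?_ ?_
      · have h2 := IsSeparable.map ρ₁ ρ₁.toRingHom.injective
          (Algebra.IsSeparable.isSeparable (ResidueField A) (residue R r))
        simp only [ρ₁, lift₀, resLift_residue] at h2
        exact mem_separableClosure_iff.mpr h2
      · have h2 := IsSeparable.map ρ₂ ρ₂.toRingHom.injective
          (Algebra.IsSeparable.isSeparable (ResidueField A) (residue R s))
        simp only [ρ₂, lift₀, resLift_residue] at h2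
        exact mem_separableClosure_iff.mpr h2
  let τ : M →ₐ[ResidueField A] ResidueField R := IsSepClosed.lift
  have hρ : ∀ (f : R →ₐ[A] Ω) (hf : ∀ r, f r ∈ M) (x : ResidueField R), lift₀ f x ∈ M := by
    intro f hf x
    obtain ⟨r, rfl⟩ := residue_surjective x
    show resLift R f (residue R r) ∈ M
    rw [resLift_residue]
    exact hf r
  let τ₁ : ResidueField R →ₐ[ResidueField A] ResidueField R :=
    τ.comp (ρ₁.codRestrict M.toSubalgebra (hρ _ fun r => hM _))
  let τ₂ : ResidueField R →ₐ[ResidueField A] ResidueField R :=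
    τ.comp (ρ₂.codRestrict M.toSubalgebra (hρ _ fun r => hM _))
  have hauto : ∀ t : ResidueField R →ₐ[ResidueField A] ResidueField R,
      ∃ γ : R ≃ₐ[A] R, ∀ x, residue R (γ x) = t (residue R x) := by
    intro t
    have hb := Algebra.IsAlgebraic.algHom_bijective t
    let t' := AlgEquiv.ofBijective t hb
    obtain ⟨G, hG⟩ := GrothLib.Hensel.IsStrictHenselization.exists_algHom (R := A) (S := R) R t
    obtain ⟨G', hG'⟩ :=
      GrothLib.Hensel.IsStrictHenselization.exists_algHom (R := A) (S := R) R t'.symm.toAlgHom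
    refine ⟨AlgEquiv.ofAlgHom G G' ?_ ?_, hG⟩
    · refine GrothLib.Hensel.IsStrictHenselization.algHom_eq_id _ fun x => ?_
      rw [AlgHom.comp_apply, hG, hG']
      exact t'.apply_symm_apply _
    · refine GrothLib.Hensel.IsStrictHenselization.algHom_eq_id _ fun x => ?_
      rw [AlgHom.comp_apply, hG', hG]
      exact t'.symm_apply_apply _
  obtain ⟨γ₁, hγ₁⟩ := hauto τ₁
  obtain ⟨γ₂, hγ₂⟩ := hauto τ₂
  have := weaklyEtale (A := A) R
  let g : R ⊗[A] R →ₐ[A] R :=
    ((Algebra.TensorProduct.lmul' A (S := R)).comp (Algebra.TensorProduct.congr γ₁ γ₂).toAlgHom)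
  refine ⟨g, ?_, ?_⟩
  · exact (RingHom.Flat.of_bijective (Algebra.TensorProduct.congr γ₁ γ₂).bijective).comp
      (Algebra.WeaklyEtale.flat_lmul' A R)
  · have key : ∀ x, residue R (g x) = τ ⟨π x, hM x⟩ := by
      intro x
      induction x using TensorProduct.induction_on with
      | zero =>
        rw [map_zero, map_zero]
        exact ((congrArg τ (show (⟨π 0, hM 0⟩ : M) = 0 from Subtype.ext (map_zero π))).trans
          (map_zero τ)).symm
      | add x y hx hy =>
        have : (⟨π (x + y), hM (x + y)⟩ : M) = ⟨π x, hM x⟩ + ⟨π y, hM y⟩ := Subtype.ext (map_add π x y)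
        rw [map_add, map_add, hx, hy, this, map_add]
      | tmul r s =>
        have h1 : (⟨π (r ⊗ₜ s), hM _⟩ : M) = ⟨π (r ⊗ₜ 1), hM _⟩ * ⟨π (1 ⊗ₜ s), hM _⟩ :=
          Subtype.ext (by
            show π (r ⊗ₜ s) = π (r ⊗ₜ 1) * π (1 ⊗ₜ s)
            rw [← map_mul, Algebra.TensorProduct.tmul_mul_tmul, mul_one, one_mul])
        rw [h1, map_mul τ]
        show residue R (g (r ⊗ₜ s)) = _
        simp only [g, AlgHom.comp_apply, AlgEquiv.coe_toAlgHom, Algebra.TensorProduct.congr_apply,
          Algebra.TensorProduct.map_tmul, Algebra.TensorProduct.lmul'_apply_tmul, map_mul, hγ₁, hγ₂]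
        rfl
    intro x
    rw [← residue_eq_zero_iff, key, map_eq_zero_iff τ τ.toRingHom.injective]
    exact ⟨fun h => congrArg Subtype.val h, fun h => Subtype.ext h⟩

/-- Through every point of `R ⊗ R` over the closed point passes a flat retraction to `R`. -/
theorem exists_flat_retraction (z : PrimeSpectrum (R ⊗[A] R))
    (hz : z.comap (algebraMap A (R ⊗[A] R)) = closedPoint A) :
    ∃ g : R ⊗[A] R →ₐ[A] R, g.toRingHom.Flat ∧ (closedPoint R).comap g.toRingHom = z := by
  let π : R ⊗[A] R →ₐ[A] z.asIdeal.ResidueField := IsScalarTower.toAlgHom A (R ⊗[A] R) _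
  have hπ : ∀ x, π x = 0 ↔ x ∈ z.asIdeal := fun x => Ideal.algebraMap_residueField_eq_zero
  obtain ⟨g, hg, hgπ⟩ := exists_retraction_of_hom R π fun a ha => by
    rw [← π.commutes]
    exact (hπ _).mpr ((congrArg PrimeSpectrum.asIdeal hz).ge ha)
  refine ⟨g, hg, ?_⟩
  ext x
  exact (hgπ x).trans (hπ x)

theorem exists_ne_closedPoint (hconn : IsConnected (overU A R)) :
    ∃ p : PrimeSpectrum A, p ≠ closedPoint A := by
  obtain ⟨q, hq⟩ := hconn.nonempty
  exact ⟨_, hq⟩

/-- A clopen subset over the punctured spectrum extends. -/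
theorem exists_idempotent (hqc : IsCompact ({closedPoint A}ᶜ : Set (PrimeSpectrum A)))
    (hconn : IsConnected (overU A R)) (D D' : Set (PrimeSpectrum (R ⊗[A] R)))
    (hD : IsOpen D) (hD' : IsOpen D') (hdisj : Disjoint D D')
    (hun : D ∪ D' = overU A (R ⊗[A] R)) :
    ∃ ε : R ⊗[A] R, IsIdempotentElem ε ∧ ∀ z ∈ overU A (R ⊗[A] R), ε ∉ z.asIdeal ↔ z ∈ D := by
  have hne := exists_ne_closedPoint R hconn
  have : Module.Flat A R := GrothLib.Hensel.IsStrictHenselization.flat
  have huniv : closure D ∪ closure D' = Set.univ := by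
    rw [← closure_union, hun]
    refine Set.eq_univ_of_forall fun z => ?_
    obtain ⟨c, hc, hcz⟩ := exists_specializes_overU A hne z
    exact closure_mono (Set.singleton_subset_iff.mpr hc) hcz.mem_closure
  have hcpt : ∀ D D' : Set (PrimeSpectrum (R ⊗[A] R)), IsOpen D' → Disjoint D D' →
      D ∪ D' = overU A (R ⊗[A] R) → IsCompact D := by
    intro D D' hD' hdisj hun
    have : D = overU A (R ⊗[A] R) ∩ D'ᶜ := by
      rw [← hun]
      ext a
      exact ⟨fun h => ⟨Or.inl h, Set.disjoint_left.mp hdisj h⟩, fun h => h.1.resolve_right h.2⟩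
    rw [this]
    exact (isCompact_overU A _ hqc).inter_right hD'.isClosed_compl
  have hd : Disjoint (closure D) (closure D') := by
    rw [Set.disjoint_left]
    intro z h1 h2
    have hzU : z ∉ overU A (R ⊗[A] R) := by
      intro h
      rcases hun.ge h with h' | h'
      · exact Set.disjoint_left.mp (hdisj.closure_right hD) h' h2
      · exact Set.disjoint_left.mp (hdisj.closure_left hD') h1 h'
    obtain ⟨g, hgflat, hgz⟩ := exists_flat_retraction R z (not_not.mp hzU)
    let j : PrimeSpectrum R → PrimeSpectrum (R ⊗[A] R) := fun q => q.comap g.toRingHom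
    have hj : ∀ q, (j q).comap (algebraMap A (R ⊗[A] R)) = q.comap (algebraMap A R) := fun q => by
      rw [← g.comp_algebraMap]
      rfl
    have hlift : ∀ c ∈ overU A (R ⊗[A] R), c ⤳ z → ∃ q ∈ overU A R, j q = c := by
      intro c hc hcz
      obtain ⟨q, -, hq⟩ := RingHom.Flat.generalizingMap_comap hgflat (a := closedPoint R) (b := c)
        (hgz.symm ▸ hcz)
      exact ⟨q, by rw [mem_overU, ← hj, show j q = c from hq]; exact hc, hq⟩
    obtain ⟨c, hc, hcz⟩ := ConnInfinity21.exists_specializes_of_isCompact hD (hcpt D D' hD' hdisj hun) h1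
    obtain ⟨c', hc', hcz'⟩ := ConnInfinity21.exists_specializes_of_isCompact hD'
      (hcpt D' D hD hdisj.symm ((Set.union_comm _ _).trans hun)) h2
    obtain ⟨q, hqU, hq⟩ := hlift c (hun.le (Or.inl hc)) hcz
    obtain ⟨q', hqU', hq'⟩ := hlift c' (hun.le (Or.inr hc')) hcz'
    have hjc : Continuous j := PrimeSpectrum.continuous_comap _
    obtain ⟨x, -, hxD, hxD'⟩ := hconn.isPreconnected (j ⁻¹' D) (j ⁻¹' D') (hD.preimage hjc)
      (hD'.preimage hjc) (fun x hx => by
        have : j x ∈ overU A (R ⊗[A] R) := by rw [mem_overU, hj]; exact hx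
        exact hun.ge this)
      ⟨q, hqU, by rw [Set.mem_preimage, hq]; exact hc⟩
      ⟨q', hqU', by rw [Set.mem_preimage, hq']; exact hc'⟩
    exact Set.disjoint_left.mp hdisj hxD hxD'
  have hcompl : (closure D)ᶜ = closure D' :=
    Set.Subset.antisymm (fun a ha => (huniv.ge trivial).resolve_left ha)
      (fun a ha ha' => Set.disjoint_left.mp hd ha' ha)
  have hclopen : IsClopen (closure D) :=
    ⟨isClosed_closure, by rw [← isClosed_compl_iff, hcompl]; exact isClosed_closure⟩
  obtain ⟨ε, hε, hDε⟩ := PrimeSpectrum.isClopen_iff.mp hclopen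
  refine ⟨ε, hε, fun z hz => ?_⟩
  have h1 : (z ∈ closure D) ↔ ε ∉ z.asIdeal := by rw [hDε]; rfl
  rw [← h1]
  refine ⟨fun h => ?_, fun h => subset_closure h⟩
  rcases hun.ge hz with h' | h'
  · exact h'
  · exact absurd h (fun h => Set.disjoint_left.mp (hdisj.closure_left hD') h h')

end Groth.Agent.SplitPunct21
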