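import Groth.Agent.SplitPunct21.Sections

/-!
# Gluing idempotents of a split cover
-/

set_option autoImplicit false

universe u

open CategoryTheory CategoryTheory.Limits AlgebraicGeometry TensorProduct IsLocalRing

namespace Groth.Agent.SplitPunct21

variable {A : Type u} [CommRing A] [IsLocalRing A] (R : Type u) [CommRing R] [IsLocalRing R] [Algebra A R]
  [IsLocalHom (algebraMap A R)] [Hensel.IsStrictHenselization A R]

theorem exists_glueing (hqc : IsCompact ({closedPoint A}ᶜ : Set (PrimeSpectrum A)))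
    (hconn : _root_.IsConnected (overU A R)) {V : Scheme.{u}} (h : V ⟶ (FEt.puncturedSpec A : Scheme.{u}))
    [LocallyOfFiniteType h] [FormallyUnramified h] {n : ℕ} (s : Fin n → (part A R ⟶ V))
    (hs : ∀ i, s i ≫ h = pullback.fst _ _) (hbij : UniqueLift R h s) :
    ∃ ε : Fin n → Fin n → R ⊗[A] R,
      Function.Bijective (comparison A R ε) ∧
      ∀ (Ω : Type u) [Field Ω] [IsAlgClosed Ω] [Algebra A Ω] (hΩ : Generic A Ω) (f g : R →ₐ[A] Ω) i j,
        Algebra.TensorProduct.lift f g (fun _ _ => .all _ _) (ε i j) = 1 ↔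
          pt hΩ f ≫ s i = pt hΩ g ≫ s j := by
  classical
  have hne := exists_ne_closedPoint R hconn
  have : Module.Flat A R := GrothLib.Hensel.IsStrictHenselization.flat
  let F := R ⊗[A] R
  let i₁ : R →ₐ[A] F := Algebra.TensorProduct.includeLeft
  let i₂ : R →ₐ[A] F := Algebra.TensorProduct.includeRight
  have hO : ∀ i j, ∃ O : (part A F).Opens, ∀ {T' : Scheme.{u}} (k : T' ⟶ part A F),
      Set.range k ⊆ (O : Set (part A F)) ↔ k ≫ partMap i₁ ≫ s i = k ≫ partMap i₂ ≫ s j := fun i j =>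
    GrothLib.EtDescent21.exists_agreeOpen h _ _ (by simp [hs])
  choose O hO using hO
  let π := pullback.snd (FEt.puncturedSpec A).ι (specHom A F)
  let D : Fin n → Fin n → Set (PrimeSpectrum F) := fun i j => π '' (O i j : Set (part A F))
  have hDopen : ∀ i j, IsOpen (D i j) := fun i j => π.isOpenEmbedding.isOpenMap _ (O i j).2
  have hD : ∀ (Ω : Type u) [Field Ω] [Algebra A Ω] (hΩ : Generic A Ω) (χ : F →ₐ[A] Ω) i j,
      (closedPoint Ω).comap χ.toRingHom ∈ D i j ↔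
        pt hΩ (χ.comp i₁) ≫ s i = pt hΩ (χ.comp i₂) ≫ s j := by
    intro Ω _ _ hΩ χ i j
    rw [← pt_partMap, ← pt_partMap, Category.assoc, Category.assoc, ← hO i j (pt hΩ χ)]
    have hz : π (pt hΩ χ (closedPoint Ω)) = (closedPoint Ω).comap χ.toRingHom := by
      rw [← Scheme.Hom.comp_apply, pt_snd]
      rfl
    constructor
    · rintro ⟨w, hw, hwz⟩ _ ⟨y, rfl⟩
      obtain rfl : y = closedPoint Ω := Subsingleton.elim (α := PrimeSpectrum Ω) _ _
      rwa [← π.isOpenEmbedding.injective (hwz.trans hz.symm)]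
    · exact fun hr => ⟨_, hr ⟨_, rfl⟩, hz⟩
  have hrow : ∀ (Ω : Type u) [Field Ω] [Algebra A Ω] (hΩ : Generic A Ω) (f g : R →ₐ[A] Ω) i,
      ∃! j, pt hΩ f ≫ s i = pt hΩ g ≫ s j := by
    intro Ω _ _ hΩ f g i
    obtain ⟨j, hj, hu⟩ := hbij Ω (pt hΩ g) (pt hΩ f ≫ s i) (by simp [hs])
    exact ⟨j, hj.symm, fun k hk => hu k hk.symm⟩
  have hcol : ∀ (Ω : Type u) [Field Ω] [Algebra A Ω] (hΩ : Generic A Ω) (f g : R →ₐ[A] Ω) j,
      ∃! i, pt hΩ f ≫ s i = pt hΩ g ≫ s j := fun Ω _ _ hΩ f g j =>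
    hbij Ω (pt hΩ f) (pt hΩ g ≫ s j) (by simp [hs])
  have hDsub : ∀ i j, D i j ⊆ overU A F := fun i j =>
    (Set.image_subset_range _ _).trans (range_snd_part A F).le
  have hidem : ∀ i j, ∃ ε : F, IsIdempotentElem ε ∧
      ∀ z ∈ overU A F, ε ∉ z.asIdeal ↔ z ∈ D i j := by
    intro i j
    refine exists_idempotent R hqc hconn (D i j) (⋃ k ∈ {k | k ≠ i}, D k j) (hDopen i j)
      (isOpen_biUnion fun k _ => hDopen k j) (Set.disjoint_left.mpr fun z hz hz' => ?_) ?_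
    · obtain ⟨k, hki, hk⟩ := Set.mem_iUnion₂.mp hz'
      obtain ⟨Ω, _, _, _, χ, hΩ, rfl⟩ := exists_hom_of_mem (hDsub i j hz)
      exact hki ((hcol Ω hΩ _ _ j).unique ((hD Ω hΩ χ k j).mp hk) ((hD Ω hΩ χ i j).mp hz))
    · refine Set.Subset.antisymm (Set.union_subset (hDsub i j) (Set.iUnion₂_subset fun k _ => hDsub k j))
        fun z hz => ?_
      obtain ⟨Ω, _, _, _, χ, hΩ, rfl⟩ := exists_hom_of_mem hz
      obtain ⟨k, hk, -⟩ := hcol Ω hΩ (χ.comp i₁) (χ.comp i₂) j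
      by_cases hki : k = i
      · exact Or.inl ((hD Ω hΩ χ i j).mpr (hki ▸ hk))
      · exact Or.inr (Set.mem_iUnion₂.mpr ⟨k, hki, (hD Ω hΩ χ k j).mpr hk⟩)
  choose ε hε hεD using hidem
  have key : ∀ (Ω : Type u) [Field Ω] [Algebra A Ω] (hΩ : Generic A Ω) (χ : F →ₐ[A] Ω) i j,
      χ (ε i j) = 1 ↔ pt hΩ (χ.comp i₁) ≫ s i = pt hΩ (χ.comp i₂) ≫ s j := by
    intro Ω _ _ hΩ χ i j
    rw [hom_eq_one_iff χ (hε i j), hεD i j _ (point_mem_overU hΩ χ), hD Ω hΩ χ i j]
  have hrows : ∀ i, OrthogonalIdempotents (ε i) ∧ ∑ j, ε i j = 1 := fun i =>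
    sum_eq_one_of_existsUnique hne (hε i) fun Ω _ _ _ hΩ χ =>
      (existsUnique_congr fun j => key Ω hΩ χ i j).mpr (hrow Ω hΩ _ _ i)
  have hcols : ∀ j, OrthogonalIdempotents (fun i => ε i j) ∧ ∑ i, ε i j = 1 := fun j =>
    sum_eq_one_of_existsUnique hne (fun i => hε i j) fun Ω _ _ _ hΩ χ =>
      (existsUnique_congr fun i => key Ω hΩ χ i j).mpr (hcol Ω hΩ _ _ j)
  have hdiag : ∀ i j, Algebra.TensorProduct.lmul' A (S := R) (ε i j) = if i = j then 1 else 0 := by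
    intro i j
    refine eq_of_forall_hom hne ((hε i j).map _)
      (by split_ifs; exacts [IsIdempotentElem.one, IsIdempotentElem.zero]) fun Ω _ _ _ hΩ χ => ?_
    have e₁ : (χ.comp (Algebra.TensorProduct.lmul' A (S := R))).comp i₁ = χ := by ext; simp [i₁]
    have e₂ : (χ.comp (Algebra.TensorProduct.lmul' A (S := R))).comp i₂ = χ := by ext; simp [i₂]
    rw [← AlgHom.comp_apply, key Ω hΩ, e₁, e₂]
    by_cases hij : i = j
    · simp [hij]
    · rw [if_neg hij, map_zero]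
      exact iff_of_false (fun he => hij ((hcol Ω hΩ χ χ j).unique he rfl)) zero_ne_one
  have hcocycle : ∀ i k, ∑ j, a12 A R (ε i j) * a23 A R (ε j k) = a13 A R (ε i k) := by
    intro i k
    have ho : OrthogonalIdempotents fun j => a12 A R (ε i j) * a23 A R (ε j k) :=
      ⟨fun j => ((hε i j).map _).mul ((hε j k).map _), fun j l hjl => by
        dsimp only
        rw [mul_mul_mul_comm, ← map_mul, (hrows i).1.2 hjl, map_zero, zero_mul]⟩
    refine eq_of_forall_hom hne ho.isIdempotentElem_sum ((hε i k).map _) fun Ω _ _ _ hΩ χ => ?_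
    let f := χ.comp (Algebra.TensorProduct.includeLeft : R →ₐ[A] R ⊗[A] F)
    let g := χ.comp ((Algebra.TensorProduct.includeRight : F →ₐ[A] R ⊗[A] F).comp i₁)
    let l := χ.comp ((Algebra.TensorProduct.includeRight : F →ₐ[A] R ⊗[A] F).comp i₂)
    have c₁₂ : (χ.comp (a12 A R)).comp i₁ = f ∧ (χ.comp (a12 A R)).comp i₂ = g := by
      constructor <;> ext x <;> simp [a12, i₁, i₂, f, g] <;> rfl
    have c₂₃ : (χ.comp (a23 A R)).comp i₁ = g ∧ (χ.comp (a23 A R)).comp i₂ = l := by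
      constructor <;> ext x <;> simp [a23, i₁, i₂, g, l, F]
    have c₁₃ : (χ.comp (a13 A R)).comp i₁ = f ∧ (χ.comp (a13 A R)).comp i₂ = l := by
      constructor <;> ext x <;> simp [a13, i₁, i₂, f, l, ← Algebra.TensorProduct.one_def, F]
    obtain ⟨j, hj, hju⟩ := hrow Ω hΩ f g i
    have v12 : ∀ j', χ (a12 A R (ε i j')) = 1 ↔ j' = j := fun j' => by
      rw [← AlgHom.comp_apply, key Ω hΩ, c₁₂.1, c₁₂.2]
      exact ⟨hju j', fun e => e ▸ hj⟩
    rw [map_sum, Finset.sum_eq_single j (fun j' _ hj' => by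
        rw [map_mul, (hom_eq_zero_or_one χ ((hε i j').map (a12 A R))).resolve_right
          (fun e => hj' ((v12 j').mp e)), zero_mul])
      (fun e => absurd (Finset.mem_univ j) e),
      map_mul, (v12 j).mpr rfl, one_mul, ← AlgHom.comp_apply, ← AlgHom.comp_apply, key Ω hΩ,
      key Ω hΩ, c₂₃.1, c₂₃.2, c₁₃.1, c₁₃.2, hj]
  refine ⟨ε, bijective_comparison A R ε (fun i j k hik => (hcols j).1.2 hik) (fun i => (hrows i).2)
    (fun j => (hcols j).2) hdiag hcocycle, fun Ω _ _ _ hΩ f g i j => ?_⟩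
  have e₁ : (Algebra.TensorProduct.lift f g fun _ _ => .all _ _).comp i₁ = f := by ext; simp [i₁]
  have e₂ : (Algebra.TensorProduct.lift f g fun _ _ => .all _ _).comp i₂ = g := by ext; simp [i₂]
  rw [key Ω hΩ, e₁, e₂]

end Groth.Agent.SplitPunct21
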