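import Groth.Agent.SplitPunct21.Extend
import Groth.Agent.SplitPunct21.Descent

/-!
# Geometric points of the punctured spectrum and of the descended algebra
-/

set_option autoImplicit false

universe u

open TensorProduct IsLocalRing PrimeSpectrum

namespace Groth.Agent.SplitPunct21

variable (A : Type u) [CommRing A] [IsLocalRing A]

/-- A field over `A` whose point is not closed. -/
def Generic (Ω : Type u) [Field Ω] [Algebra A Ω] : Prop := closedPoint Ω ∈ overU A Ω

variable {A} {F : Type u} [CommRing F] [Algebra A F]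

theorem point_mem_overU {Ω : Type u} [Field Ω] [Algebra A Ω] (hΩ : Generic A Ω) (χ : F →ₐ[A] Ω) :
    (closedPoint Ω).comap χ.toRingHom ∈ overU A F := by
  rw [mem_overU, ← PrimeSpectrum.comap_comp_apply,
    show χ.toRingHom.comp (algebraMap A F) = algebraMap A Ω from χ.comp_algebraMap]
  exact hΩ

/-- Geometric points over a nonclosed prime. -/
theorem exists_hom_of_mem {z : PrimeSpectrum F} (hz : z ∈ overU A F) :
    ∃ (Ω : Type u) (_ : Field Ω) (_ : IsAlgClosed Ω) (_ : Algebra A Ω) (χ : F →ₐ[A] Ω),
      Generic A Ω ∧ (closedPoint Ω).comap χ.toRingHom = z := by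
  let Ω := AlgebraicClosure z.asIdeal.ResidueField
  let χ : F →ₐ[A] Ω := IsScalarTower.toAlgHom A F Ω
  have h : (closedPoint Ω).comap χ.toRingHom = z := by
    ext x
    show χ x ∈ maximalIdeal Ω ↔ _
    rw [IsLocalRing.maximalIdeal_eq_bot, Ideal.mem_bot]
    show algebraMap F Ω x = 0 ↔ _
    rw [IsScalarTower.algebraMap_apply F z.asIdeal.ResidueField Ω, map_eq_zero]
    exact Ideal.algebraMap_residueField_eq_zero
  refine ⟨Ω, inferInstance, inferInstance, inferInstance, χ, ?_, h⟩
  rw [Generic, mem_overU, show algebraMap A Ω = χ.toRingHom.comp (algebraMap A F) from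
    χ.comp_algebraMap.symm, PrimeSpectrum.comap_comp_apply, h]
  exact hz

theorem hom_eq_zero_or_one {Ω : Type u} [Field Ω] {G : Type*} [FunLike G F Ω] [RingHomClass G F Ω]
    (χ : G) {e : F} (he : IsIdempotentElem e) : χ e = 0 ∨ χ e = 1 :=
  IsIdempotentElem.iff_eq_zero_or_one.mp (he.map χ)

theorem hom_eq_one_iff {Ω : Type u} [Field Ω] [Algebra A Ω] (χ : F →ₐ[A] Ω) {e : F}
    (he : IsIdempotentElem e) :
    χ e = 1 ↔ e ∉ ((closedPoint Ω).comap χ.toRingHom).asIdeal := by
  show _ ↔ χ e ∉ maximalIdeal Ω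
  rw [IsLocalRing.maximalIdeal_eq_bot, Ideal.mem_bot]
  rcases hom_eq_zero_or_one χ he with h | h <;> simp [h]

/-- Idempotents are determined by their values at geometric points over the punctured spectrum. -/
theorem eq_of_forall_hom [Module.Flat A F] (hne : ∃ p : PrimeSpectrum A, p ≠ closedPoint A) {e e' : F}
    (he : IsIdempotentElem e) (he' : IsIdempotentElem e')
    (h : ∀ (Ω : Type u) [Field Ω] [IsAlgClosed Ω] [Algebra A Ω], Generic A Ω →
      ∀ χ : F →ₐ[A] Ω, χ e = 1 ↔ χ e' = 1) : e = e' := by
  refine eq_of_idempotent A hne he he' fun z hz => ?_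
  obtain ⟨Ω, _, _, _, χ, hΩ, rfl⟩ := exists_hom_of_mem hz
  have := h Ω hΩ χ
  rw [hom_eq_one_iff χ he, hom_eq_one_iff χ he'] at this
  exact not_iff_not.mp this

/-- A family with a unique member equal to one at each geometric point sums to one. -/
theorem sum_eq_one_of_existsUnique [Module.Flat A F] (hne : ∃ p : PrimeSpectrum A, p ≠ closedPoint A)
    {ι : Type} [Fintype ι] {e : ι → F} (he : ∀ i, IsIdempotentElem (e i))
    (h : ∀ (Ω : Type u) [Field Ω] [IsAlgClosed Ω] [Algebra A Ω], Generic A Ω →
      ∀ χ : F →ₐ[A] Ω, ∃! i, χ (e i) = 1) : OrthogonalIdempotents e ∧ ∑ i, e i = 1 := by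
  classical
  have ho : OrthogonalIdempotents e := by
    refine ⟨he, fun i k hik => eq_of_forall_hom hne ((he i).mul (he k)) IsIdempotentElem.zero
      fun Ω _ _ _ hΩ χ => ?_⟩
    rw [map_mul, map_zero]
    refine ⟨fun h1 => ?_, fun h1 => absurd h1 zero_ne_one⟩
    rcases hom_eq_zero_or_one χ (he i) with hi | hi
    · rw [hi, zero_mul] at h1; exact absurd h1 zero_ne_one
    rw [hi, one_mul] at h1
    exact absurd ((h Ω hΩ χ).unique hi h1) hik
  refine ⟨ho, eq_of_forall_hom hne ho.isIdempotentElem_sum IsIdempotentElem.one fun Ω _ _ _ hΩ χ => ?_⟩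
  obtain ⟨i, hi, hu⟩ := h Ω hΩ χ
  rw [map_one, map_sum, Finset.sum_eq_single i (fun k _ hk =>
    (hom_eq_zero_or_one χ (he k)).resolve_right fun h1 => hk (hu k h1))
    (fun h1 => absurd (Finset.mem_univ i) h1)]
  exact iff_of_true hi rfl

variable {R : Type u} [CommRing R] [Algebra A R] {ι : Type} (ε : ι → ι → R ⊗[A] R)

/-- A coordinate of the descended algebra. -/
noncomputable def coord (i : ι) : descended A R ε →ₐ[A] R :=
  (Pi.evalAlgHom A (fun _ : ι => R) i).comp (descended A R ε).val

omit [IsLocalRing A] in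
theorem coord_apply (i : ι) (x : descended A R ε) : coord ε i x = (x : ι → R) i := rfl

omit [IsLocalRing A] in
theorem comp_coord_eq {Ω : Type u} [Field Ω] [Algebra A Ω] {f g : R →ₐ[A] Ω} {i j : ι}
    (h : Algebra.TensorProduct.lift f g (fun _ _ => .all _ _) (ε i j) = 1) :
    f.comp (coord ε i) = g.comp (coord ε j) := by
  ext x
  have := congrArg (Algebra.TensorProduct.lift f g fun _ _ => .all _ _) (x.2 i j)
  simpa [h, coord] using this

omit [IsLocalRing A] in
/-- Points of the descended algebra lift uniquely to the coordinates. -/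
theorem existsUnique_comp_coord [Fintype ι] [DecidableEq ι]
    (hb : Function.Bijective (comparison A R ε)) {Ω : Type u} [Field Ω] [Algebra A Ω]
    (f : R →ₐ[A] Ω) (π : descended A R ε →ₐ[A] Ω) : ∃! i, f.comp (coord ε i) = π := by
  have hlin : ∀ (j : ι) z, f (comparison A R ε z j) =
      Algebra.TensorProduct.lift f (f.comp (coord ε j)) (fun _ _ => .all _ _) z := by
    intro j z
    induction z using TensorProduct.induction_on with
    | zero => simp
    | tmul r x => simp [comparison_tmul, coord]
    | add a b ha hb => simp only [map_add, Pi.add_apply, ha, hb]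
  let c : R ⊗[A] descended A R ε →ₐ[R] (ι → R) := comparison A R ε
  let e := AlgEquiv.ofBijective c hb
  let Φ : R ⊗[A] descended A R ε →ₐ[A] Ω := Algebra.TensorProduct.lift f π fun _ _ => .all _ _
  let h : (ι → R) →+* Ω := Φ.toRingHom.comp e.symm.toRingHom
  have hs : ∀ r : R, h (algebraMap R (ι → R) r) = f r := fun r => by
    show Φ (e.symm (algebraMap R (ι → R) r)) = f r
    rw [AlgEquiv.commutes]
    simp [Φ, Algebra.TensorProduct.algebraMap_apply]
  obtain ⟨i, hi⟩ : ∃ i, h (Pi.single i 1) ≠ 0 := by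
    by_contra hc
    simp only [ne_eq, not_exists, not_not] at hc
    have h1 : h 1 = 0 := by
      rw [← Finset.univ_sum_single (1 : ι → R), map_sum]
      exact Finset.sum_eq_zero fun i _ => hc i
    exact one_ne_zero ((map_one h).symm.trans h1)
  have hone : h (Pi.single i 1) = 1 := by
    have : h (Pi.single i 1) * h (Pi.single i 1) = 1 * h (Pi.single i 1) := by
      rw [← map_mul, ← Pi.single_mul, mul_one, one_mul]
    exact mul_right_cancel₀ hi this
  refine ⟨i, ?_, fun j hj => ?_⟩
  · ext x
    have e1 : e ((1 : R) ⊗ₜ x) * Pi.single i 1 = algebraMap R (ι → R) ((x : ι → R) i) * Pi.single i 1 := by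
      funext k
      show comparison A R ε (1 ⊗ₜ x) k * _ = _
      rw [comparison_tmul]
      by_cases hk : k = i
      · subst hk; simp
      · simp [hk]
    have e2 := congrArg h e1
    rw [map_mul, map_mul, hone, mul_one, mul_one, hs] at e2
    refine e2.symm.trans ?_
    show Φ (e.symm (e _)) = _
    rw [AlgEquiv.symm_apply_apply]
    simp [Φ]
  · have := hlin j (e.symm (Pi.single i 1))
    rw [hj] at this
    change f ((e (e.symm (Pi.single i 1))) j) = h (Pi.single i 1) at this
    rw [AlgEquiv.apply_symm_apply, hone] at this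
    by_contra hne
    simp [hne] at this

end Groth.Agent.SplitPunct21
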