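import Groth.Agent.SplitPunct21.Points
import Groth.Agent.Lib.EtDescent21.Lift
import Groth.Prelude.Def_Pi1

/-!
# Sections of a split cover and their gluing idempotents
-/

set_option autoImplicit false

universe u v

open CategoryTheory CategoryTheory.Limits AlgebraicGeometry TensorProduct IsLocalRing

namespace Groth.Agent.SplitPunct21

variable (A : Type u) [CommRing A] [IsLocalRing A]

/-- The structure morphism of the spectrum of an algebra. -/
noncomputable abbrev specHom (F : Type u) [CommRing F] [Algebra A F] :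
    Spec (CommRingCat.of F) ⟶ Spec (CommRingCat.of A) :=
  Spec.map (CommRingCat.ofHom (algebraMap A F))

/-- The part of the spectrum of an algebra over the punctured spectrum. -/
noncomputable abbrev part (F : Type u) [CommRing F] [Algebra A F] : Scheme.{u} :=
  pullback (FEt.puncturedSpec A).ι (specHom A F)

theorem range_snd_part (F : Type u) [CommRing F] [Algebra A F] :
    Set.range (pullback.snd (FEt.puncturedSpec A).ι (specHom A F)) = overU A F := by
  rw [Scheme.Pullback.range_snd, Scheme.Opens.range_ι]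
  rfl

variable {A}

theorem specHom_comp {F G : Type u} [CommRing F] [CommRing G] [Algebra A F] [Algebra A G]
    (φ : F →ₐ[A] G) : Spec.map (CommRingCat.ofHom φ.toRingHom) ≫ specHom A F = specHom A G := by
  rw [← Spec.map_comp, ← CommRingCat.ofHom_comp]
  exact congrArg (fun r => Spec.map (CommRingCat.ofHom r)) φ.comp_algebraMap

/-- The map of parts over the punctured spectrum. -/
noncomputable def partMap {F G : Type u} [CommRing F] [CommRing G] [Algebra A F] [Algebra A G]
    (φ : F →ₐ[A] G) : part A G ⟶ part A F :=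
  pullback.lift (pullback.fst _ _) (pullback.snd _ _ ≫ Spec.map (CommRingCat.ofHom φ.toRingHom))
    (by rw [Category.assoc, specHom_comp, pullback.condition])

@[reassoc (attr := simp)]
theorem partMap_fst {F G : Type u} [CommRing F] [CommRing G] [Algebra A F] [Algebra A G]
    (φ : F →ₐ[A] G) : partMap φ ≫ pullback.fst _ _ = pullback.fst _ _ := pullback.lift_fst _ _ _

@[reassoc (attr := simp)]
theorem partMap_snd {F G : Type u} [CommRing F] [CommRing G] [Algebra A F] [Algebra A G]
    (φ : F →ₐ[A] G) :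
    partMap φ ≫ pullback.snd _ _ = pullback.snd _ _ ≫ Spec.map (CommRingCat.ofHom φ.toRingHom) :=
  pullback.lift_snd _ _ _

variable {Ω : Type u} [Field Ω] [Algebra A Ω]

theorem range_specHom (hΩ : Generic A Ω) :
    Set.range (specHom A Ω) ⊆ Set.range (FEt.puncturedSpec A).ι := by
  rintro _ ⟨x, rfl⟩
  rw [Scheme.Opens.range_ι]
  obtain rfl : x = closedPoint Ω := Subsingleton.elim (α := PrimeSpectrum Ω) _ _
  exact hΩ

/-- The point of the punctured spectrum. -/
noncomputable def base (hΩ : Generic A Ω) : Spec (CommRingCat.of Ω) ⟶ (FEt.puncturedSpec A : Scheme.{u}) :=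
  IsOpenImmersion.lift (FEt.puncturedSpec A).ι (specHom A Ω) (range_specHom hΩ)

theorem base_ι (hΩ : Generic A Ω) : base hΩ ≫ (FEt.puncturedSpec A).ι = specHom A Ω :=
  IsOpenImmersion.lift_fac _ _ _

variable {F : Type u} [CommRing F] [Algebra A F]

/-- The point of a part attached to a homomorphism. -/
noncomputable def pt (hΩ : Generic A Ω) (f : F →ₐ[A] Ω) : Spec (CommRingCat.of Ω) ⟶ part A F :=
  pullback.lift (base hΩ) (Spec.map (CommRingCat.ofHom f.toRingHom))
    (by rw [base_ι, specHom_comp])

@[reassoc (attr := simp)]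
theorem pt_fst (hΩ : Generic A Ω) (f : F →ₐ[A] Ω) : pt hΩ f ≫ pullback.fst _ _ = base hΩ :=
  pullback.lift_fst _ _ _

@[reassoc (attr := simp)]
theorem pt_snd (hΩ : Generic A Ω) (f : F →ₐ[A] Ω) :
    pt hΩ f ≫ pullback.snd _ _ = Spec.map (CommRingCat.ofHom f.toRingHom) :=
  pullback.lift_snd _ _ _

theorem pt_partMap {G : Type u} [CommRing G] [Algebra A G] (hΩ : Generic A Ω) (f : G →ₐ[A] Ω)
    (φ : F →ₐ[A] G) : pt hΩ f ≫ partMap φ = pt hΩ (f.comp φ) := by
  apply pullback.hom_ext
  · simp
  · simp only [Category.assoc, partMap_snd, pt_snd, pt_snd_assoc]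
    rw [← Spec.map_comp, ← CommRingCat.ofHom_comp]
    rfl

/-- Every point of a part comes from a homomorphism. -/
theorem exists_pt (a : Spec (CommRingCat.of Ω) ⟶ part A F)
    (h : a ≫ pullback.fst _ _ ≫ (FEt.puncturedSpec A).ι = specHom A Ω) :
    ∃ (hΩ : Generic A Ω) (f : F →ₐ[A] Ω), a = pt hΩ f := by
  have hΩ : Generic A Ω := by
    have : specHom A Ω (closedPoint Ω) ∈ Set.range (FEt.puncturedSpec A).ι := by
      rw [← h]
      exact ⟨(a ≫ pullback.fst _ _) (closedPoint Ω), rfl⟩
    rw [Scheme.Opens.range_ι] at this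
    exact this
  let r := (Spec.preimage (a ≫ pullback.snd _ _)).hom
  have hr : r.comp (algebraMap A F) = algebraMap A Ω := by
    have e : CommRingCat.ofHom (algebraMap A F) ≫ Spec.preimage (a ≫ pullback.snd _ _) =
        CommRingCat.ofHom (algebraMap A Ω) := Spec.map_injective (by
      rw [Spec.map_comp, Spec.map_preimage, Category.assoc, ← pullback.condition]
      exact h)
    exact congrArg CommRingCat.Hom.hom e
  refine ⟨hΩ, { r with commutes' := fun x => RingHom.congr_fun hr x }, ?_⟩
  apply pullback.hom_ext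
  · rw [pt_fst, ← cancel_mono (FEt.puncturedSpec A).ι, base_ι, Category.assoc, h]
  · rw [pt_snd]
    exact (Spec.map_preimage _).symm

variable (R : Type u) [CommRing R] [Algebra A R]

/-- A geometric point lifts uniquely along one section. -/
def UniqueLift {V : Scheme.{u}} (h : V ⟶ (FEt.puncturedSpec A : Scheme.{u})) {n : ℕ}
    (s : Fin n → (part A R ⟶ V)) : Prop :=
  ∀ (Ω : Type u) [Field Ω] (a : Spec (CommRingCat.of Ω) ⟶ part A R)
    (v : Spec (CommRingCat.of Ω) ⟶ V), v ≫ h = a ≫ pullback.fst _ _ → ∃! i, a ≫ s i = v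

theorem exists_sigmaι_fac {ι : Type v} [Small.{u} ι] {X : ι → Scheme.{u}}
    (b : Spec (CommRingCat.of Ω) ⟶ ∐ X) : ∃ i c, c ≫ Sigma.ι X i = b := by
  obtain ⟨i, x, hix⟩ := (sigmaOpenCover X).exists_eq (b (closedPoint Ω))
  haveI : IsOpenImmersion (Sigma.ι X i) := (sigmaOpenCover X).map_prop i
  refine ⟨i, IsOpenImmersion.lift (Sigma.ι X i) b ?_, IsOpenImmersion.lift_fac _ _ _⟩
  rintro _ ⟨y, rfl⟩
  obtain rfl : y = closedPoint Ω := Subsingleton.elim (α := PrimeSpectrum Ω) _ _
  exact ⟨x, hix⟩

/-- A splitting gives sections with the unique lifting property. -/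
theorem exists_sections (V : FEt.Cat (FEt.puncturedSpec A : Scheme.{u}))
    (hV : Pi1.IsSplit ((FEt.restrict (pullback.fst (FEt.puncturedSpec A).ι (specHom A R))).obj V)) :
    ∃ (n : ℕ) (s : Fin n → (part A R ⟶ V.left)),
      (∀ i, s i ≫ V.hom = pullback.fst _ _) ∧ UniqueLift R V.hom s := by
  obtain ⟨ι, _, e, he⟩ := hV
  let h : V.left ⟶ (FEt.puncturedSpec A : Scheme.{u}) := V.hom
  let a₀ := pullback.fst (FEt.puncturedSpec A).ι (specHom A R)
  let e' : pullback h a₀ ≅ ∐ fun _ : ι => part A R := e
  have he' : ∀ i : ι, Sigma.ι (fun _ : ι => part A R) i ≫ e'.inv ≫ pullback.snd h a₀ = 𝟙 _ := he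
  obtain ⟨n, ⟨σ⟩⟩ := Finite.exists_equiv_fin ι
  let s : Fin n → (part A R ⟶ V.left) := fun k =>
    Sigma.ι (fun _ : ι => part A R) (σ.symm k) ≫ e'.inv ≫ pullback.fst h a₀
  refine ⟨n, s, fun k => ?_, fun Ω _ a v hv => ?_⟩
  · show (_ ≫ _ ≫ pullback.fst h a₀) ≫ h = a₀
    rw [Category.assoc, Category.assoc, pullback.condition, ← Category.assoc e'.inv,
      ← Category.assoc, he', Category.id_comp]
  · let b := pullback.lift v a hv ≫ e'.hom
    obtain ⟨i, c, hc⟩ := exists_sigmaι_fac b
    have hc' : (c ≫ Sigma.ι (fun _ : ι => part A R) i) ≫ e'.inv = pullback.lift v a hv := by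
      rw [hc, Category.assoc, Iso.hom_inv_id, Category.comp_id]
    have hca : c = a := by
      have := congrArg (· ≫ pullback.snd h a₀) hc'
      simp only [Category.assoc, he', Category.comp_id] at this
      exact this.trans (pullback.lift_snd _ _ _)
    subst hca
    refine ⟨σ i, ?_, fun k hk => ?_⟩
    · show c ≫ Sigma.ι (fun _ : ι => part A R) (σ.symm (σ i)) ≫ e'.inv ≫ pullback.fst h a₀ = v
      rw [Equiv.symm_apply_apply, ← Category.assoc, ← Category.assoc, hc', pullback.lift_fst]
    · have hk' : (c ≫ Sigma.ι (fun _ : ι => part A R) (σ.symm k)) ≫ e'.inv = pullback.lift v c hv := by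
        apply pullback.hom_ext
        · refine Eq.trans ?_ (pullback.lift_fst _ _ _).symm
          simpa only [Category.assoc, s] using hk
        · simp only [Category.assoc, he', Category.comp_id]
          exact (pullback.lift_snd _ _ _).symm
      have h2 : c ≫ Sigma.ι (fun _ : ι => part A R) (σ.symm k) = c ≫ Sigma.ι (fun _ : ι => part A R) i :=
        (cancel_mono e'.inv).mp (hk'.trans hc'.symm)
      by_contra hne
      have hne' : σ.symm k ≠ i := fun h' => hne (by rw [← h', Equiv.apply_symm_apply])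
      have hp : (Sigma.ι (fun _ : ι => part A R) (σ.symm k)) (c (closedPoint Ω)) =
          (Sigma.ι (fun _ : ι => part A R) i) (c (closedPoint Ω)) := by
        rw [← Scheme.Hom.comp_apply, ← Scheme.Hom.comp_apply, h2]
      exact Set.disjoint_left.mp
        (TopologicalSpace.Opens.coe_disjoint.mpr (disjoint_opensRange_sigmaι _ _ _ hne'))
        ⟨_, rfl⟩ ⟨_, hp.symm⟩

end Groth.Agent.SplitPunct21
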